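/-
Sections of invariant chains with cyclic factors: commutators and `(p-1)`-th powers of `p'`-automorphisms act
trivially on them.
-/
import Mathlib
import Cfsg.Agent.Lib.Fusion.Chain

set_option autoImplicit false
set_option linter.style.haveILetI false
set_option linter.unusedSectionVars false

namespace Cfsg.Agent.Lib.Fusion.Super.Section

open Cfsg.Agent.Lib.Fusion.Chain
open scoped commutatorElement

variable {P : Type*} [Group P]

/-- The automorphism of `W` induced by an automorphism preserving `W`. -/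
def restrictAut (W : Subgroup P) (a : MulAut P) (h1 : ∀ x ∈ W, a x ∈ W) (h2 : ∀ x ∈ W, a⁻¹ x ∈ W) :
    MulAut W where
  toFun x := ⟨a x, h1 x x.2⟩
  invFun x := ⟨a⁻¹ x, h2 x x.2⟩
  left_inv x := Subtype.ext (by simp)
  right_inv x := Subtype.ext (by simp)
  map_mul' x y := Subtype.ext (map_mul a _ _)

section Sec

variable {A : Subgroup (MulAut P)} {U W : Subgroup P}
  (hW : ∀ a ∈ A, ∀ x ∈ W, a x ∈ W) (hU : ∀ a ∈ A, ∀ x ∈ U, a x ∈ U) [hN : (U.subgroupOf W).Normal]

/-- The automorphism of a section induced by an element of `A`. -/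
noncomputable def secAut (a : A) : MulAut (W ⧸ U.subgroupOf W) :=
  QuotientGroup.congr (U.subgroupOf W) (U.subgroupOf W)
    (restrictAut W a.1 (hW a.1 a.2) (hW _ (A.inv_mem a.2))) (by
      ext x
      constructor
      · rintro ⟨y, hy, rfl⟩
        exact hU a.1 a.2 _ hy
      · intro hx
        refine ⟨⟨a.1⁻¹ x, hW _ (A.inv_mem a.2) _ x.2⟩, ?_, ?_⟩
        · exact hU _ (A.inv_mem a.2) _ hx
        · apply Subtype.ext
          show a.1 (a.1⁻¹ x.1) = x.1
          simp)

theorem secAut_mk (a : A) (x : W) :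
    secAut hW hU a (x : W ⧸ U.subgroupOf W) = ((⟨a.1 x, hW a.1 a.2 _ x.2⟩ : W) : W ⧸ U.subgroupOf W) := rfl

/-- The action on a section, as a homomorphism. -/
noncomputable def secHom : A →* MulAut (W ⧸ U.subgroupOf W) :=
  MonoidHom.mk' (secAut hW hU) (by
    intro a b
    ext x
    induction x using QuotientGroup.induction_on with
    | H x => rfl)

theorem secHom_mk (a : A) (x : W) :
    secHom hW hU a (x : W ⧸ U.subgroupOf W) = ((⟨a.1 x, hW a.1 a.2 _ x.2⟩ : W) : W ⧸ U.subgroupOf W) := rfl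

theorem mem_of_secHom_eq_one {a : A} (h : secHom hW hU a = 1) {x : P} (hx : x ∈ W) :
    x⁻¹ * a.1 x ∈ U := by
  have h1 := secHom_mk hW hU a ⟨x, hx⟩
  rw [h] at h1
  have h2 : ((⟨x, hx⟩ : W) : W ⧸ U.subgroupOf W) =
      ((⟨a.1 x, hW a.1 a.2 _ hx⟩ : W) : W ⧸ U.subgroupOf W) := h1
  have h3 := QuotientGroup.eq.1 h2
  exact h3

/-- Automorphisms of a cyclic group commute. -/
theorem mulAut_comm_of_isCyclic {C : Type*} [Group C] [IsCyclic C] (f g : MulAut C) : f * g = g * f := by
  classical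
  apply (IsCyclic.mulAutMulEquiv C).injective
  rw [map_mul, map_mul]
  exact mul_comm _ _

include hW hU in
/-- Commutators act trivially on a cyclic section. -/
theorem comm_stab [IsCyclic (W ⧸ U.subgroupOf W)] (a b : A) {x : P} (hx : x ∈ W) :
    x⁻¹ * (⁅a, b⁆ : A).1 x ∈ U := by
  apply mem_of_secHom_eq_one hW hU _ hx
  rw [map_commutatorElement, commutatorElement_eq_one_iff_mul_comm]
  exact mulAut_comm_of_isCyclic _ _

/-- An element of `MulAut C`, `C` a cyclic `p`-group, of order prime to `p` has order dividing `p - 1`. -/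
theorem pow_eq_one_of_coprime {C : Type*} [Group C] [Finite C] [IsCyclic C] {p : ℕ} [hp : Fact p.Prime]
    (hC : IsPGroup p C) (f : MulAut C) (hf : (orderOf f).Coprime p) : f ^ (p - 1) = 1 := by
  haveI : Finite (MulAut C) := inferInstance
  have h1 : orderOf f ∣ Nat.card (MulAut C) := orderOf_dvd_natCard f
  rw [IsCyclic.card_mulAut] at h1
  obtain ⟨k, hk⟩ := IsPGroup.iff_card.1 hC
  rw [hk] at h1
  have h2 : orderOf f ∣ p - 1 := by
    rcases Nat.eq_zero_or_pos k with rfl | hk0
    · rw [pow_zero, Nat.totient_one] at h1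
      rw [Nat.dvd_one.1 h1]
      exact one_dvd _
    · rw [Nat.totient_prime_pow hp.out hk0] at h1
      exact Nat.Coprime.dvd_of_dvd_mul_left (hf.pow_right _) h1
  exact orderOf_dvd_iff_pow_eq_one.1 h2

include hW hU in
/-- The `(p-1)`-th power of a `p'`-element acts trivially on a cyclic `p`-section. -/
theorem pow_stab [Finite (W ⧸ U.subgroupOf W)] [IsCyclic (W ⧸ U.subgroupOf W)] {p : ℕ} [hp : Fact p.Prime]
    (hC : IsPGroup p (W ⧸ U.subgroupOf W)) {a : A} (ha : (orderOf a).Coprime p) {x : P} (hx : x ∈ W) :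
    x⁻¹ * (a ^ (p - 1) : A).1 x ∈ U := by
  apply mem_of_secHom_eq_one hW hU _ hx
  rw [map_pow]
  apply pow_eq_one_of_coprime hC
  exact Nat.Coprime.coprime_dvd_left (orderOf_map_dvd _ _) ha

end Sec

/-- A chain of `A`-invariant subgroups with cyclic factors. -/
structure IsCycChain (A : Subgroup (MulAut P)) (D : ℕ → Subgroup P) (m : ℕ) : Prop where
  zero : D 0 = ⊥
  top : D m = ⊤
  inv : ∀ i ≤ m, ∀ a ∈ A, ∀ x ∈ D i, a x ∈ D i
  le : ∀ i < m, D i ≤ D (i + 1)
  cyc : ∀ i < m, ∃ _ : ((D i).subgroupOf (D (i + 1))).Normal,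
    IsCyclic (D (i + 1) ⧸ (D i).subgroupOf (D (i + 1)))

variable {A : Subgroup (MulAut P)} {D : ℕ → Subgroup P} {m : ℕ}

/-- Commutators stabilize a cyclic chain. -/
theorem comm_mem_chainStab (h : IsCycChain A D m) (a b : A) : ⁅a, b⁆ ∈ chainStab A D m h.inv := by
  intro i hi x hx
  obtain ⟨hn, hc⟩ := h.cyc i hi
  haveI := hn
  haveI := hc
  exact comm_stab (h.inv (i + 1) hi) (h.inv i (by omega)) a b hx

/-- `(p-1)`-th powers of `p'`-elements stabilize a cyclic chain. -/
theorem pow_mem_chainStab [Finite P] {p : ℕ} [hp : Fact p.Prime] (hP : IsPGroup p P)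
    (h : IsCycChain A D m) {a : A} (ha : (orderOf a).Coprime p) : a ^ (p - 1) ∈ chainStab A D m h.inv := by
  intro i hi x hx
  obtain ⟨hn, hc⟩ := h.cyc i hi
  haveI := hn
  haveI := hc
  have hC : IsPGroup p (D (i + 1) ⧸ (D i).subgroupOf (D (i + 1))) :=
    IsPGroup.to_quotient (IsPGroup.to_subgroup hP (D (i + 1))) _
  exact pow_stab (h.inv (i + 1) hi) (h.inv i (by omega)) hC ha hx

/-- A `p'`-subgroup of `A`, when `A` preserves a chain with cyclic factors, is abelian of exponent dividing `p - 1`. -/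
theorem comm_and_pow_of_coprime [Finite P] {p : ℕ} [hp : Fact p.Prime] (hP : IsPGroup p P)
    (h : IsCycChain A D m) {H : Subgroup (MulAut P)} (hHA : H ≤ A) (hH : (Nat.card H).Coprime p) :
    IsMulCommutative H ∧ ∀ g ∈ H, g ^ (p - 1) = 1 := by
  have hord : ∀ g ∈ H, (orderOf g).Coprime p := by
    intro g hg
    have h1 : orderOf g ∣ Nat.card H := by
      have := orderOf_dvd_natCard (⟨g, hg⟩ : H)
      rwa [Subgroup.orderOf_mk] at this
    exact Nat.Coprime.coprime_dvd_left h1 hH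
  constructor
  · refine ⟨⟨fun x y => ?_⟩⟩
    have hc := comm_mem_chainStab h (⟨x.1, hHA x.2⟩ : A) (⟨y.1, hHA y.2⟩ : A)
    have hH' : ⁅x.1, y.1⁆ ∈ H := H.mul_mem (H.mul_mem (H.mul_mem x.2 y.2) (H.inv_mem x.2)) (H.inv_mem y.2)
    have h1 : ⁅x.1, y.1⁆ = 1 := by
      refine eq_one_of_stab_chain hP h.zero h.top hc (hord _ hH')
    apply Subtype.ext
    exact commutatorElement_eq_one_iff_mul_comm.1 h1
  · intro g hg
    have hc := pow_mem_chainStab hP h (a := ⟨g, hHA hg⟩) (by
      rw [Subgroup.orderOf_mk]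
      exact hord g hg)
    refine eq_one_of_stab_chain hP h.zero h.top hc ?_
    show (orderOf (g ^ (p - 1))).Coprime p
    exact Nat.Coprime.coprime_dvd_left (orderOf_pow_dvd _) (hord g hg) 

end Cfsg.Agent.Lib.Fusion.Super.Section
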