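/-
Supersoluble fusion systems: chains of strongly closed subgroups with cyclic steps. The top subgroup is normal, and
the `p'`-subgroups of `Aut(S)` are abelian of exponent dividing `p - 1` when every system over `S` has such a chain.
-/
import Mathlib
import Cfsg.Agent.Lib.Fusion.Super.Section
import Cfsg.Agent.Lib.Fusion.Resist.Local
import Cfsg.Agent.Lib.Fusion.NormalEssential
import Cfsg.Agent.Lib.Coprime.Coset
import Cfsg.Agent.Lib.Fusion.Pullback

set_option autoImplicit false
set_option linter.style.haveILetI false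
set_option linter.unusedSectionVars false

namespace Cfsg.Agent.Lib.Fusion.Super.Forward

open Cfsg Cfsg.FusionSystem Cfsg.Agent.Lib.Fusion.Basic Cfsg.Agent.Lib.Fusion.Saturated
  Cfsg.Agent.Lib.Fusion.Saturated2 Cfsg.Agent.Lib.Fusion.Chain Cfsg.Agent.Lib.Fusion.Super.Section
  Cfsg.Agent.Lib.Fusion.Resist.Local Cfsg.Agent.Lib.Fusion.Essential
open scoped commutatorElement

variable {Ω : Type*} [Group Ω] {S : Subgroup Ω}

/-- A chain of strongly closed subgroups with cyclic steps, indexed by natural numbers. -/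
structure IsSupChain (F : FusionSystem S) (c : ℕ → Subgroup Ω) (m : ℕ) : Prop where
  zero : c 0 = ⊥
  top : c m = S
  closed : ∀ i ≤ m, F.StronglyClosed (c i)
  step : ∀ i < m, c i ≤ c (i + 1) ∧ ∃ x ∈ S, c (i + 1) = c i ⊔ Subgroup.zpowers x

/-- The chain condition, as in the statements. -/
def HasSupChain (F : FusionSystem S) : Prop :=
  ∃ (m : ℕ) (c : Fin (m + 1) → Subgroup Ω), c 0 = ⊥ ∧ c (Fin.last m) = S ∧
    (∀ i : Fin (m + 1), F.StronglyClosed (c i)) ∧
    ∀ i : Fin m, c i.castSucc ≤ c i.succ ∧ ∃ x ∈ S, c i.succ = c i.castSucc ⊔ Subgroup.zpowers x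

variable {F : FusionSystem S}

theorem HasSupChain.exists_nat (h : HasSupChain F) : ∃ (c : ℕ → Subgroup Ω) (m : ℕ), IsSupChain F c m := by
  obtain ⟨m, c, h0, hl, hcl, hst⟩ := h
  have hle : ∀ {j : ℕ}, j ≤ m → j < m + 1 := fun h => Nat.lt_succ_of_le h
  let c' : ℕ → Subgroup Ω := fun j => if h : j ≤ m then c ⟨j, hle h⟩ else S
  have hc' : ∀ j (h : j ≤ m), c' j = c ⟨j, hle h⟩ := fun j h => dif_pos h
  refine ⟨c', m, ?_, ?_, ?_, ?_⟩
  · rw [hc' 0 (Nat.zero_le m)]
    exact h0
  · rw [hc' m le_rfl]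
    exact hl
  · intro i hi
    rw [hc' i hi]
    exact hcl _
  · intro i hi
    rw [hc' i hi.le, hc' (i + 1) hi]
    exact hst ⟨i, hi⟩

theorem IsSupChain.hasSupChain {c : ℕ → Subgroup Ω} {m : ℕ} (h : IsSupChain F c m) : HasSupChain F := by
  refine ⟨m, fun j => c j.val, h.zero, h.top, fun i => h.closed i.val (Nat.lt_succ_iff.1 i.2), fun i => ?_⟩
  exact h.step i.val i.2

/-- The quotient of `c ⊔ ⟨x⟩` by `c` is cyclic. -/
theorem isCyclic_sup_quot {c d : Subgroup Ω} {x : Ω} (hd : d = c ⊔ Subgroup.zpowers x)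
    (hx : x ∈ Subgroup.normalizer (c : Set Ω)) [hn : (c.subgroupOf d).Normal] :
    IsCyclic (d ⧸ c.subgroupOf d) := by
  have hxd : x ∈ d := by
    rw [hd]
    exact (le_sup_right : Subgroup.zpowers x ≤ _) (Subgroup.mem_zpowers x)
  have hAN : Subgroup.zpowers x ≤ Subgroup.normalizer (c : Set Ω) := by
    rw [Subgroup.zpowers_le]
    exact hx
  refine ⟨⟨((⟨x, hxd⟩ : d) : d ⧸ c.subgroupOf d), fun y => ?_⟩⟩
  induction y using QuotientGroup.induction_on with
  | H y =>
    have hy : (y : Ω) ∈ c ⊔ Subgroup.zpowers x := by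
      rw [← hd]
      exact y.2
    obtain ⟨n, hn', a, ha, he⟩ := (Coprime.Coset.mem_sup_iff_of_le_normalizer hAN _).1 hy
    obtain ⟨k, hk⟩ := Subgroup.mem_zpowers_iff.1 ha
    refine Subgroup.mem_zpowers_iff.2 ⟨k, ?_⟩
    have h1 : ((⟨x, hxd⟩ : d) ^ k : d) = ⟨a, by rw [← hk]; exact zpow_mem hxd k⟩ := by
      apply Subtype.ext
      simpa using hk
    rw [← QuotientGroup.mk_zpow, h1, QuotientGroup.eq]
    show ((⟨a, _⟩ : d)⁻¹ * y).1 ∈ c
    have h2 : ((⟨a, by rw [← hk]; exact zpow_mem hxd k⟩ : d)⁻¹ * y).1 = a⁻¹ * y.1 := rfl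
    rw [h2, ← he]
    have h3 : a⁻¹ * (n * a) = a⁻¹ * n * a⁻¹⁻¹ := by group
    rw [h3]
    exact (Subgroup.mem_normalizer_iff.1 (hAN (Subgroup.inv_mem _ ha)) n).1 hn'

/-- A subsection of a section with the same trace. -/
theorem isCyclic_section {Q c d : Subgroup Ω} [hn : (c.subgroupOf d).Normal]
    [hc : IsCyclic (d ⧸ c.subgroupOf d)]
    [hn' : ((c.subgroupOf Q).subgroupOf (d.subgroupOf Q)).Normal] :
    IsCyclic ((d.subgroupOf Q) ⧸ (c.subgroupOf Q).subgroupOf (d.subgroupOf Q)) := by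
  let j : d.subgroupOf Q →* d :=
    { toFun := fun y => ⟨y.1.1, y.2⟩
      map_one' := rfl
      map_mul' := fun _ _ => rfl }
  let f : d.subgroupOf Q →* d ⧸ c.subgroupOf d := (QuotientGroup.mk' _).comp j
  let f' := QuotientGroup.lift ((c.subgroupOf Q).subgroupOf (d.subgroupOf Q)) f (by
    intro y hy
    exact (QuotientGroup.eq_one_iff (j y)).2 hy)
  apply isCyclic_of_injective f'
  rw [injective_iff_map_eq_one]
  intro y hy
  induction y using QuotientGroup.induction_on with
  | H y =>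
    have h1 : f y = 1 := hy
    have h2 := (QuotientGroup.eq_one_iff (j y)).1 h1
    exact (QuotientGroup.eq_one_iff y).2 h2

/-- The trace of a supersoluble chain on `Q`. -/
theorem isCycChain_of_supChain {c : ℕ → Subgroup Ω} {m : ℕ} (h : IsSupChain F c m) {Q : Subgroup Ω}
    (hQS : Q ≤ S) : IsCycChain (F.autGroup Q) (fun j => (c j).subgroupOf Q) m where
  zero := by
    show (c 0).subgroupOf Q = ⊥
    rw [h.zero, Subgroup.bot_subgroupOf]
  top := by
    show (c m).subgroupOf Q = ⊤
    rw [h.top]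
    exact Subgroup.subgroupOf_eq_top.2 hQS
  inv := fun i hi a ha x hx => StronglyClosed.aut_mem (h.closed i hi) hQS ha x hx
  le := fun i hi x hx => (h.step i hi).1 hx
  cyc := by
    intro i hi
    obtain ⟨hle, x, hxS, hx⟩ := h.step i hi
    have hcl := h.closed i hi.le
    have hcl' := h.closed (i + 1) hi
    have hN : (((c i).subgroupOf Q).subgroupOf ((c (i + 1)).subgroupOf Q)).Normal := by
      refine ⟨fun n hn g => ?_⟩
      exact NormalCR.StronglyClosed.conj_mem hcl (hcl'.1 g.2) hn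
    have hN' : ((c i).subgroupOf (c (i + 1))).Normal := by
      refine ⟨fun n hn g => ?_⟩
      exact NormalCR.StronglyClosed.conj_mem hcl (hcl'.1 g.2) hn
    haveI := hN
    haveI := hN'
    haveI := isCyclic_sup_quot hx (NormalCR.StronglyClosed.le_normalizer hcl hxS)
    exact ⟨hN, isCyclic_section⟩

section Normal

variable [Finite S] {p : ℕ} [hp : Fact p.Prime]

/-- With a supersoluble chain, the only essential subgroup candidate is `S`. -/
theorem eq_of_essential (hS : IsPGroup p S) {c : ℕ → Subgroup Ω} {m : ℕ} (h : IsSupChain F c m) {Q : Subgroup Ω}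
    (hQ : F.IsEssential p Q) : Q = S := by
  classical
  by_contra hne
  have hQS : Q ≤ S := hQ.1.1
  have hC : centralizerIn S Q ≤ Q := hQ.1.2 Q (Basic.IsConj.refl hQS)
  have hlt : Q < S := lt_of_le_of_ne hQS hne
  obtain ⟨t, ht, htQ⟩ := SetLike.exists_of_lt (lt_normalizerIn hS hlt)
  haveI : Finite Q := finite_of_le hQS
  haveI := finite_autGroup (F := F) hQS
  haveI := finite_mulAut hQS
  have hQp : IsPGroup p Q := isPGroup_of_le hS hQS
  let γ : F.autGroup Q :=
    ⟨normConj t ht.2, autInducedBy_le_autGroup hQS (normConj_mem_autInducedBy ht.1 ht.2)⟩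
  have hch := isCycChain_of_supChain h hQS
  let K := chainStab (F.autGroup Q) _ m hch.inv
  haveI hKn : K.Normal := chainStab_normal _ _ m hch.inv
  have hKp : IsPGroup p K := chainStab_isPGroup hQp _ hch.zero hch.top hch.inv
  have hγp : IsPGroup p (Subgroup.zpowers γ) := by
    obtain ⟨k, hk⟩ := isPGroup_autInducedBy hS Q ⟨_, normConj_mem_autInducedBy ht.1 ht.2⟩
    have hk' : γ ^ p ^ k = 1 := by
      apply Subtype.ext
      have h1 := congrArg Subtype.val hk
      simpa using h1
    rintro ⟨g, n, rfl⟩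
    refine ⟨k, Subtype.ext ?_⟩
    show ((fun x => γ ^ x) n) ^ p ^ k = 1
    show (γ ^ n) ^ p ^ k = 1
    rw [← zpow_natCast, ← zpow_mul, mul_comm, zpow_mul, zpow_natCast, hk', one_zpow]
  have hNp : IsPGroup p ↥(Subgroup.zpowers γ ⊔ K) := IsPGroup.to_sup_of_normal_right hγp hKp
  have hNn : (Subgroup.zpowers γ ⊔ K).Normal := by
    refine ⟨fun y hy a => ?_⟩
    have h1 : a * y * a⁻¹ = ⁅a, y⁆ * y := by
      rw [commutatorElement_def]
      group
    rw [h1]
    exact mul_mem ((le_sup_right : K ≤ _) (comm_mem_chainStab hch a y)) hy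
  have hmem := mem_inn_of_normal_of_essential hQ hNn hNp (β := γ)
    ((le_sup_left : Subgroup.zpowers γ ≤ _) (Subgroup.mem_zpowers γ))
  exact normConj_not_mem_inn hQS hC ht.1 ht.2 htQ hmem

/-- A supersoluble saturated fusion system has `S` normal. -/
theorem isNormal_top_of_supChain (hS : IsPGroup p S) (hF : F.IsSaturated p) {c : ℕ → Subgroup Ω} {m : ℕ}
    (h : IsSupChain F c m) : F.IsNormal S := by
  rw [NormalEssential.isNormal_iff_essential hS hF]
  intro T hT
  have hTS : T = S := by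
    rcases hT with rfl | hT
    · rfl
    · exact eq_of_essential hS h hT
  subst hTS
  refine ⟨le_rfl, fun α hα => ?_⟩
  have h1 : T.subgroupOf T = ⊤ := Subgroup.subgroupOf_self T
  rw [h1]
  exact Subgroup.map_top_of_surjective _ α.surjective

end Normal

section Realized

variable {G : Type*} [Group G]

/-- The fusion system realized by an injective homomorphism of `S` to a group. -/
def realized (ι : S →* G) (hι : Function.Injective ι) : FusionSystem S where
  Hom P := {φ | ∃ (hP : P ≤ S) (hφ : ∀ x : P, φ x ∈ S) (g : G),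
    ∀ x : P, ι ⟨φ x, hφ x⟩ = g * ι ⟨x, hP x.2⟩ * g⁻¹}
  le_of_mem := fun ⟨hP, hφ, _⟩ => ⟨hP, hφ⟩
  injective_of_mem := by
    rintro P φ ⟨hP, hφ, g, hg⟩ a b hab
    have h1 := hg a
    have h2 := hg b
    have h3 : (⟨φ a, hφ a⟩ : S) = ⟨φ b, hφ b⟩ := Subtype.ext hab
    rw [h3, h2] at h1
    have h4 : ι ⟨b, hP b.2⟩ = ι ⟨a, hP a.2⟩ := by
      have := mul_left_cancel (mul_right_cancel h1)
      exact this
    have h5 := hι h4
    exact Subtype.ext (congrArg Subtype.val h5).symm
  conj_mem := by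
    intro P g hP hg
    refine ⟨hP, fun x => S.mul_mem (S.mul_mem hg (hP x.2)) (S.inv_mem hg), ι ⟨g, hg⟩, fun x => ?_⟩
    rw [← map_inv, ← map_mul, ← map_mul]
    rfl
  comp_mem := by
    rintro P Q φ ψ ⟨hP, hφ, g, hg⟩ ⟨hQ, hψ, g', hg'⟩ h
    refine ⟨hP, fun x => hψ _, g' * g, fun x => ?_⟩
    have h1 := hg' ⟨φ x, h x⟩
    have h2 := hg x
    show ι ⟨ψ ⟨φ x, h x⟩, _⟩ = _
    rw [h1]
    show g' * ι ⟨φ x, hφ x⟩ * g'⁻¹ = _
    rw [h2]
    group
  inv_mem := by
    rintro P φ ⟨hP, hφ, g, hg⟩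
    have hinj : Function.Injective φ := by
      intro a b hab
      have h1 := hg a
      have h2 := hg b
      have h3 : (⟨φ a, hφ a⟩ : S) = ⟨φ b, hφ b⟩ := Subtype.ext hab
      rw [h3, h2] at h1
      have h4 : ι ⟨b, hP b.2⟩ = ι ⟨a, hP a.2⟩ := by
        have := mul_left_cancel (mul_right_cancel h1)
        exact this
      have h5 := hι h4
      exact Subtype.ext (congrArg Subtype.val h5).symm
    let e := MonoidHom.ofInjective hinj
    have he : ∀ x : P, e.symm ⟨φ x, ⟨x, rfl⟩⟩ = x := fun x => e.symm_apply_apply x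
    have he' : ∀ y : φ.range, φ (e.symm y) = y := fun y => by
      have := congrArg Subtype.val (e.apply_symm_apply y)
      exact this
    refine ⟨P.subtype.comp e.symm.toMonoidHom, ⟨?_, ?_, g⁻¹, ?_⟩, fun x => ?_⟩
    · rintro _ ⟨x, rfl⟩
      exact hφ x
    · intro y
      exact hP (e.symm y).2
    · intro y
      have h1 := hg (e.symm y)
      have h2 : (⟨φ (e.symm y), hφ _⟩ : S) = ⟨y, by
          obtain ⟨y, x, rfl⟩ := y
          exact hφ x⟩ := Subtype.ext (he' y)
      rw [h2] at h1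
      show ι ⟨(e.symm y : Ω), _⟩ = _
      rw [h1]
      group
    · show ((e.symm ⟨φ x, ⟨x, rfl⟩⟩ : P) : Ω) = x
      rw [he x]

theorem realized_isRealizedBy (ι : S →* G) (hι : Function.Injective ι) : (realized ι hι).IsRealizedBy ι := by
  refine ⟨hι, fun P hP φ hφ => ?_⟩
  constructor
  · rintro ⟨_, _, g, hg⟩
    exact ⟨g, hg⟩
  · rintro ⟨g, hg⟩
    exact ⟨hP, hφ, g, hg⟩

variable [Finite S] {p : ℕ} [hp : Fact p.Prime]

/-- Every `p'`-subgroup of `Aut(S)` is contained in `Aut_F(S)` for a saturated fusion system on `S`. -/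
theorem exists_saturated_of_coprime (hS : IsPGroup p S) (H : Subgroup (MulAut S)) (hH : (Nat.card H).Coprime p) :
    ∃ F : FusionSystem S, F.IsSaturated p ∧ H ≤ F.autGroup S := by
  classical
  haveI : Finite (MulAut S) := inferInstance
  let G := S ⋊[H.subtype] H
  haveI : Finite G := Finite.of_equiv _ (SemidirectProduct.equivProd).symm
  let ι : S →* G := SemidirectProduct.inl
  have hι : Function.Injective ι := SemidirectProduct.inl_injective
  have hTp : IsPGroup p ι.range := hS.of_surjective ι.rangeRestrict ι.rangeRestrict_surjective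
  have hidx : ι.range.index = Nat.card H := by
    rw [show ι.range = (SemidirectProduct.rightHom : G →* H).ker from SemidirectProduct.range_inl_eq_ker_rightHom,
      Subgroup.index_ker, MonoidHom.range_eq_top.2 SemidirectProduct.rightHom_surjective]
    exact Nat.card_congr Subgroup.topEquiv.toEquiv
  have hnd : ¬ p ∣ ι.range.index := by
    rw [hidx]
    intro hd
    have := Nat.Coprime.eq_one_of_dvd hH.symm hd
    exact hp.out.one_lt.ne' this
  let T : Sylow p G := hTp.toSylow hnd
  have hT : (T : Subgroup G) = ι.range := rfl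
  refine ⟨realized ι hι, Pullback.isSaturated_of_isRealizedBy (realized_isRealizedBy ι hι) T hT, ?_⟩
  intro h hh
  apply Subgroup.subset_closure
  refine ⟨le_rfl, fun x => (h x).2, SemidirectProduct.inr ⟨h, hh⟩, fun x => ?_⟩
  have h1 := SemidirectProduct.inl_aut (φ := H.subtype) (⟨h, hh⟩ : H) x
  rw [map_inv] at h1
  exact h1

/-- If every saturated fusion system over `S` is supersoluble, then every `p'`-subgroup of `Aut(S)` is abelian of
exponent dividing `p - 1`. -/
theorem comm_and_pow_of_forall (hS : IsPGroup p S)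
    (h : ∀ F : FusionSystem S, F.IsSaturated p → HasSupChain F) (H : Subgroup (MulAut S))
    (hH : (Nat.card H).Coprime p) : IsMulCommutative H ∧ ∀ g ∈ H, g ^ (p - 1) = 1 := by
  obtain ⟨F, hF, hle⟩ := exists_saturated_of_coprime hS H hH
  obtain ⟨c, m, hc⟩ := (h F hF).exists_nat
  exact comm_and_pow_of_coprime hS (isCycChain_of_supChain hc le_rfl) hle hH

end Realized

end Cfsg.Agent.Lib.Fusion.Super.Forward
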