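/-
A metacyclic `p`-group out of the list has a chain of strongly closed subgroups with cyclic steps for every saturated
system.
-/
import Mathlib
import Cfsg.Agent.Lib.Fusion.Super.Abelian
import Cfsg.Agent.Lib.PGroup.Basic
import Cfsg.Agent.Lib.Fusion.Resist.TwoFpf
import Cfsg.Agent.Lib.OddOrder.BG4A
import Cfsg.Agent.Lib.Fusion.Meta.Main
import Cfsg.Agent.Lib.Fusion.Meta.MainTwo

set_option autoImplicit false
set_option linter.style.haveILetI false
set_option linter.unusedSectionVars false

namespace Cfsg.Agent.Lib.Fusion.Super.ListBackward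

open Cfsg Cfsg.FusionSystem Cfsg.Agent.Lib.PGroup Cfsg.Agent.Lib.Fusion.Super.Forward
  Cfsg.Agent.Lib.Fusion.Super.Backward Cfsg.Agent.Lib.Fusion.Super.Abelian Cfsg.Agent.Lib.Fusion.Resist.GL
  Cfsg.Agent.Lib.Fusion.Resist.TwoFpf Cfsg.Agent.Lib.Fusion.Resist.TwoStruct

section Linear

variable {V : Type*} [AddCommGroup V] [Module (ZMod 2) V] [Finite V]

/-- Over `𝔽₂`, in dimension at most two, any linear automorphism fixing a nonzero vector `u` is a transvection. -/
theorem exists_add_smul_two (hV : Module.finrank (ZMod 2) V ≤ 2) (x : V ≃ₗ[ZMod 2] V)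
    {u : V} (hu : u ≠ 0) (hxu : x u = u) (w : V) : ∃ d : ZMod 2, x w = w + d • u := by
  classical
  haveI : Module.Finite (ZMod 2) V := Module.Finite.of_finite
  by_cases hw : w ∈ Submodule.span (ZMod 2) {u}
  · obtain ⟨a, rfl⟩ := Submodule.mem_span_singleton.1 hw
    exact ⟨0, by simp [hxu]⟩
  · have hli : LinearIndependent (ZMod 2) ![u, w] := by
      rw [LinearIndependent.pair_iff' hu]
      intro a h
      apply hw
      rw [Submodule.mem_span_singleton]
      exact ⟨a, h⟩
    have hcard : Fintype.card (Fin 2) = Module.finrank (ZMod 2) V := by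
      have h1 := hli.fintype_card_le_finrank
      simp only [Fintype.card_fin] at h1 ⊢
      omega
    have hspan := hli.span_eq_top_of_card_eq_finrank hcard
    have hxw : x w ∈ Submodule.span (ZMod 2) (Set.range ![u, w]) := by
      rw [hspan]
      trivial
    rw [Matrix.range_cons, Matrix.range_cons, Matrix.range_empty, Set.union_empty,
      Set.singleton_union, Submodule.mem_span_pair] at hxw
    obtain ⟨a, c, hac⟩ := hxw
    rcases zmod2_cases c with rfl | rfl
    · exfalso
      apply hw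
      have h1 : x w = x (a • u) := by
        rw [map_smul, hxu, ← hac, zero_smul, add_zero]
      rw [x.injective h1]
      exact Submodule.smul_mem _ _ (Submodule.mem_span_singleton_self u)
    · refine ⟨a, ?_⟩
      rw [← hac, one_smul, add_comm]

end Linear

section Group

variable {p : ℕ} [hp : Fact p.Prime] {P : Type*} [Group P] [Finite P]

/-- An element of a `p'`-group of automorphisms acting on the Frattini quotient as a transvection is trivial. -/
theorem eq_one_of_transv {V : Type*} [AddCommGroup V] [Module (ZMod p) V] [Finite V] (hP : IsPGroup p P)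
    (π : P →* Multiplicative V) (hπ : Function.Surjective π) (hker : π.ker = frattini P)
    (H : Subgroup (MulAut P)) (hH : (Nat.card H).Coprime p) {x : MulAut P} (hx : x ∈ H) {u : V}
    (hxu : frattGL (p := p) π hπ hker x u = u)
    (hxw : ∀ w, ∃ d : ZMod p, frattGL (p := p) π hπ hker x w = w + d • u) : x = 1 := by
  have hm : x ^ Nat.card H = 1 := by
    have h1 := pow_card_eq_one' (x := (⟨x, hx⟩ : H))
    exact congrArg Subtype.val h1
  have hmem : frattGL (p := p) π hπ hker x ∈ transvGroup (p := p) u := ⟨hxu, hxw⟩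
  obtain ⟨k, hk⟩ := isPGroup_transvGroup (p := p) u ⟨_, hmem⟩
  have h1 : (frattGL (p := p) π hπ hker x) ^ p ^ k = 1 := congrArg Subtype.val hk
  have h2 : (frattGL (p := p) π hπ hker x) ^ Nat.card H = 1 := by
    rw [← map_pow, hm, map_one]
  have h3 : frattGL (p := p) π hπ hker x = 1 := by
    have h4 : orderOf (frattGL (p := p) π hπ hker x) ∣ Nat.gcd (Nat.card H) (p ^ k) :=
      Nat.dvd_gcd (orderOf_dvd_of_pow_eq_one h2) (orderOf_dvd_of_pow_eq_one h1)
    rw [Nat.Coprime.pow_right k hH] at h4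
    exact orderOf_eq_one_iff.1 (Nat.dvd_one.1 h4)
  exact eq_one_of_frattGL_eq_one hP π hπ hker h3 hm hH

/-- The `p'`-groups of automorphisms of a nonabelian metacyclic `p`-group, `p` odd. -/
theorem comm_pow_of_meta_odd (hodd : Odd p) (hP : IsPGroup p P) (hm : Cfsg.IsMetacyclic P)
    (hna : ¬ ∀ x y : P, x * y = y * x) (H : Subgroup (MulAut P)) (hH : (Nat.card H).Coprime p) :
    IsMulCommutative H ∧ ∀ g ∈ H, g ^ (p - 1) = 1 := by
  classical
  obtain ⟨M, hM, hMa⟩ := Cfsg.Agent.Lib.OddOrder.BG4.exists_quot_of_metacyclic hodd hP hm hH H.subtype hna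
  obtain ⟨V, _, _, π, hπ, hker⟩ := FrattiniBasis.exists_vector_space hP
  haveI : Finite V := Finite.of_surjective (fun g : P => Multiplicative.toAdd (π g)) (fun v => by
    obtain ⟨g, hg⟩ := hπ (Multiplicative.ofAdd v)
    exact ⟨g, congrArg Multiplicative.toAdd hg⟩)
  haveI : Module.Finite (ZMod p) V := Module.Finite.of_finite
  have hV := finrank_le_two_of_metacyclic (p := p) hm π hπ hker
  -- a maximal subgroup containing `M`
  obtain ⟨M', hM', hMM'⟩ : ∃ M' : Subgroup P, IsCoatom M' ∧ M ≤ M' := by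
    rcases eq_top_or_exists_le_coatom M with h | h
    · exact absurd h hM
    · obtain ⟨M', h1, h2⟩ := h
      exact ⟨M', h1, h2⟩
  have hΦ : frattini P ≤ M' := frattini_le_coatom hM'
  let τ : P → V := fun g => Multiplicative.toAdd (π g)
  have hτmul : ∀ a b : P, τ (a * b) = τ a + τ b := fun a b => by
    simp only [τ, map_mul, toAdd_mul]
  have hτpow : ∀ (a : P) (n : ℕ), τ (a ^ n) = n • τ a := fun a n => by
    simp only [τ, map_pow, toAdd_pow]
  have hτsurj : ∀ v : V, ∃ g : P, τ g = v := fun v => by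
    obtain ⟨g, hg⟩ := hπ (Multiplicative.ofAdd v)
    exact ⟨g, congrArg Multiplicative.toAdd hg⟩
  let W : Submodule (ZMod p) V :=
    { carrier := {v | ∃ m ∈ M', τ m = v}
      add_mem' := by
        rintro _ _ ⟨a, ha, rfl⟩ ⟨b, hb, rfl⟩
        exact ⟨a * b, M'.mul_mem ha hb, hτmul a b⟩
      zero_mem' := ⟨1, M'.one_mem, by simp [τ]⟩
      smul_mem' := by
        rintro c _ ⟨a, ha, rfl⟩
        refine ⟨a ^ c.val, M'.pow_mem ha _, ?_⟩
        rw [hτpow, ← Nat.cast_smul_eq_nsmul (ZMod p), ZMod.natCast_zmod_val] }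
  have hW : W < ⊤ := by
    rw [lt_top_iff_ne_top]
    intro htop
    have hne : M' ≠ ⊤ := hM'.1
    apply hne
    rw [eq_top_iff]
    intro x _
    have hx : τ x ∈ W := by rw [htop]; trivial
    obtain ⟨m, hm', hme⟩ := hx
    have h1 : x⁻¹ * m ∈ π.ker := by
      rw [MonoidHom.mem_ker, map_mul, map_inv, inv_mul_eq_one]
      exact (congrArg Multiplicative.ofAdd hme).symm
    rw [hker] at h1
    have h2 := M'.mul_mem hm' (M'.inv_mem (hΦ h1))
    simpa using h2
  obtain ⟨f, hf0, hWf⟩ := Submodule.exists_le_ker_of_lt_top W hW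
  set ρ := frattGL (p := p) π hπ hker with hρ
  have hfρ : ∀ a ∈ H, ∀ w : V, f (ρ a w) = f w := by
    intro a ha w
    obtain ⟨g, rfl⟩ := hτsurj w
    have h1 : ρ a (τ g) = τ (a g) := frattGL_apply π hπ hker a g
    have h2 : a g = g * (g⁻¹ * a g) := by group
    have h3 : τ (g⁻¹ * a g) ∈ W := ⟨_, hMM' (hMa ⟨a, ha⟩ g), rfl⟩
    have h4 : f (τ (g⁻¹ * a g)) = 0 := hWf h3
    rw [h1, h2, hτmul, map_add, h4, add_zero]
  -- the kernel of `f` is a line
  have hker1 : Module.finrank (ZMod p) (LinearMap.ker f) ≤ 1 := by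
    have h1 := LinearMap.finrank_range_add_finrank_ker f
    have h2 : LinearMap.range f = ⊤ := LinearMap.range_eq_top.2 (LinearMap.surjective hf0)
    rw [h2, finrank_top, Module.finrank_self] at h1
    omega
  obtain ⟨u₀, hu₀⟩ := finrank_le_one_iff.1 hker1
  set u : V := (u₀ : V) with hu
  have hline : ∀ v : V, f v = 0 → ∃ c : ZMod p, v = c • u := by
    intro v hv
    obtain ⟨c, hc⟩ := hu₀ ⟨v, hv⟩
    exact ⟨c, (congrArg Subtype.val hc).symm⟩
  have hfu : f u = 0 := u₀.2
  have hKey : ∀ x ∈ H, ρ x u = u → x = 1 := by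
    intro x hx hxu
    refine eq_one_of_transv hP π hπ hker H hH hx hxu fun w => ?_
    obtain ⟨c, hc⟩ := hline (ρ x w - w) (by rw [map_sub, hfρ x hx, sub_self])
    exact ⟨c, by rw [← hc]; abel⟩
  have hlam : ∀ a ∈ H, ∃ c : ZMod p, ρ a u = c • u := by
    intro a ha
    exact hline _ (by rw [hfρ a ha, hfu])
  refine ⟨⟨⟨?_⟩⟩, ?_⟩
  · rintro ⟨a, ha⟩ ⟨b, hb⟩
    apply Subtype.ext
    show a * b = b * a
    obtain ⟨c, hc⟩ := hlam a ha
    obtain ⟨d, hd⟩ := hlam b hb
    have hab : ρ (a * b) u = ρ (b * a) u := by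
      rw [map_mul, map_mul, LinearEquiv.mul_apply, LinearEquiv.mul_apply, hc, hd, map_smul, map_smul, hc, hd,
        smul_comm]
    have h1 : (b * a)⁻¹ * (a * b) = 1 := by
      apply hKey _ (H.mul_mem (H.inv_mem (H.mul_mem hb ha)) (H.mul_mem ha hb))
      rw [map_mul, LinearEquiv.mul_apply, hab, ← LinearEquiv.mul_apply, ← map_mul, inv_mul_cancel, map_one]
      rfl
    exact (inv_mul_eq_one.1 h1).symm
  · intro g hg
    apply hKey _ (H.pow_mem hg _)
    obtain ⟨c, hc⟩ := hlam g hg
    have hpow : ∀ n : ℕ, ρ (g ^ n) u = c ^ n • u := by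
      intro n
      induction n with
      | zero => simp
      | succ n ih =>
        rw [pow_succ, map_mul, LinearEquiv.mul_apply, hc, map_smul, ih, smul_smul, pow_succ, mul_comm]
    rw [hpow]
    by_cases hc0 : c = 0
    · have hu0 : u = 0 := by
        rw [hc0, zero_smul] at hc
        exact (ρ g).map_eq_zero_iff.1 hc
      rw [hu0, smul_zero]
    · rw [ZMod.pow_card_sub_one_eq_one hc0, one_smul]

/-- The `p'`-groups of automorphisms of a nonabelian metacyclic `2`-group out of the list are trivial. -/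
theorem comm_pow_of_meta_two (hP : IsPGroup 2 P) (hm : Cfsg.IsMetacyclic P)
    (hna : ¬ ∀ x y : P, x * y = y * x)
    (hl : ¬ ((∃ m, Nonempty (P ≃* DihedralGroup m)) ∨ (∃ m, Nonempty (P ≃* QuaternionGroup m)) ∨
      Cfsg.IsQuasiDihedral P))
    (H : Subgroup (MulAut P)) (hH : (Nat.card H).Coprime 2) :
    IsMulCommutative H ∧ ∀ g ∈ H, g ^ (2 - 1) = 1 := by
  classical
  have hone : ∀ y ∈ H, y = 1 := by
    intro y hy
    by_contra hne
    obtain ⟨V, _, _, π, hπ, hker⟩ := FrattiniBasis.exists_vector_space hP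
    haveI : Finite V := Finite.of_surjective (fun g : P => Multiplicative.toAdd (π g)) (fun v => by
      obtain ⟨g, hg⟩ := hπ (Multiplicative.ofAdd v)
      exact ⟨g, congrArg Multiplicative.toAdd hg⟩)
    have hV := finrank_le_two_of_metacyclic (p := 2) hm π hπ hker
    have hfpf : ∀ v, v ≠ 0 → frattGL (p := 2) π hπ hker y v ≠ v := by
      intro v hv hfix
      exact hne (eq_one_of_transv hP π hπ hker H hH hy hfix (exists_add_smul_two hV _ hv hfix))
    have hna' : ∃ a b : P, a * b ≠ b * a := by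
      by_contra hcon
      push Not at hcon
      exact hna hcon
    obtain ⟨i, s, hi, hs, hs2⟩ := exists_inverted hP hm hna' hV π hπ hker y hfpf
    exact hl (iso_of_inverted hP hm hi hs hs2)
  refine ⟨⟨⟨?_⟩⟩, ?_⟩
  · rintro ⟨a, ha⟩ ⟨b, hb⟩
    apply Subtype.ext
    show a * b = b * a
    rw [hone a ha, hone b hb]
  · intro g hg
    rw [hone g hg, one_pow]

/-- The number of factors of a metacyclic abelian `p`-group. -/
theorem card_index_le_two (hP : IsPGroup p P) (hm : Cfsg.IsMetacyclic P) {ι : Type} [Fintype ι] {e : ι → ℕ}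
    (he : ∀ i, 0 < e i) (E : P ≃* ((i : ι) → Multiplicative (ZMod (p ^ e i)))) : Fintype.card ι ≤ 2 := by
  classical
  obtain ⟨V, _, _, π, hπ, hker⟩ := FrattiniBasis.exists_vector_space hP
  haveI : Finite V := Finite.of_surjective (fun g : P => Multiplicative.toAdd (π g)) (fun v => by
    obtain ⟨g, hg⟩ := hπ (Multiplicative.ofAdd v)
    exact ⟨g, congrArg Multiplicative.toAdd hg⟩)
  haveI : Module.Finite (ZMod p) V := Module.Finite.of_finite
  have hV := finrank_le_two_of_metacyclic (p := p) hm π hπ hker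
  have hp' := hp.out
  -- the coordinates modulo `p`
  let c : ∀ i, ZMod (p ^ e i) →+* ZMod p := fun i => ZMod.castHom (dvd_pow_self p (he i).ne') (ZMod p)
  have hcs : ∀ i, Function.Surjective (c i) := fun i => ZMod.ringHom_surjective _
  let ψ₀ : ((i : ι) → Multiplicative (ZMod (p ^ e i))) →* Multiplicative (ι → ZMod p) :=
    { toFun := fun x => Multiplicative.ofAdd (fun i => c i (Multiplicative.toAdd (x i)))
      map_one' := by
        apply Multiplicative.toAdd.injective
        funext i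
        simp
      map_mul' := by
        intro x y
        apply Multiplicative.toAdd.injective
        funext i
        simp }
  let ψ : P →* Multiplicative (ι → ZMod p) := ψ₀.comp E.toMonoidHom
  have hψ : Function.Surjective ψ := by
    intro t
    choose l hl using fun i => hcs i ((Multiplicative.toAdd t) i)
    refine ⟨E.symm (fun i => Multiplicative.ofAdd (l i)), ?_⟩
    apply Multiplicative.toAdd.injective
    funext i
    show c i (Multiplicative.toAdd ((E (E.symm (fun i => Multiplicative.ofAdd (l i)))) i)) = _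
    rw [E.apply_symm_apply]
    exact hl i
  have hle : frattini P ≤ ψ.ker := by
    rw [Cfsg.Agent.Lib.PGroup.Basic.frattini_le_iff hP]
    constructor
    · intro x
      rw [MonoidHom.mem_ker, map_pow]
      apply Multiplicative.toAdd.injective
      rw [toAdd_pow]
      funext i
      simp
    · intro x y
      rw [MonoidHom.mem_ker, commutatorElement_def]
      simp only [map_mul, map_inv]
      apply Multiplicative.toAdd.injective
      simp only [toAdd_mul, toAdd_inv, toAdd_one]
      abel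
  -- a surjection from `V`
  let β : V → (ι → ZMod p) := fun w => Multiplicative.toAdd (ψ (Function.surjInv hπ (Multiplicative.ofAdd w)))
  have hβ : Function.Surjective β := by
    intro t
    obtain ⟨g, hg⟩ := hψ (Multiplicative.ofAdd t)
    refine ⟨Multiplicative.toAdd (π g), ?_⟩
    have h1 : π (Function.surjInv hπ (Multiplicative.ofAdd (Multiplicative.toAdd (π g)))) = π g :=
      Function.surjInv_eq hπ _
    have h2 : (Function.surjInv hπ (Multiplicative.ofAdd (Multiplicative.toAdd (π g))))⁻¹ * g ∈ π.ker := by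
      rw [MonoidHom.mem_ker, map_mul, map_inv, h1, inv_mul_cancel]
    rw [hker] at h2
    have h3 := hle h2
    rw [MonoidHom.mem_ker, map_mul, map_inv, inv_mul_eq_one] at h3
    show Multiplicative.toAdd (ψ _) = t
    rw [h3, hg]
    rfl
  have hcard := Nat.card_le_card_of_surjective β hβ
  have hc1 : Nat.card V = p ^ Module.finrank (ZMod p) V := by
    rw [Module.natCard_eq_pow_finrank (K := ZMod p), Nat.card_zmod]
  have hc2 : Nat.card (ι → ZMod p) = p ^ Fintype.card ι := by
    simp
  rw [hc2, hc1] at hcard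
  have h3 := (Nat.pow_le_pow_iff_right hp'.one_lt).1 hcard
  omega

/-- The `p'`-groups of automorphisms of an abelian metacyclic `p`-group, not homocyclic of rank two. -/
theorem comm_pow_of_meta_abelian (hP : IsPGroup p P) (hm : Cfsg.IsMetacyclic P) (hc : ∀ a b : P, a * b = b * a)
    (hnh : ¬ ∃ n : ℕ, 0 < n ∧ Nonempty (P ≃* Multiplicative (ZMod (p ^ n)) × Multiplicative (ZMod (p ^ n))))
    (H : Subgroup (MulAut P)) (hH : (Nat.card H).Coprime p) :
    IsMulCommutative H ∧ ∀ g ∈ H, g ^ (p - 1) = 1 := by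
  classical
  obtain ⟨ι, hι, e, he, ⟨E⟩⟩ := exists_prod_zmod_pow hc hP
  by_cases hinj : ∀ i j, e i = e j → i = j
  · exact comm_and_pow_of_L hc hP (hasLProp_of_equiv E (hasLProp_of_injective hinj)) H hH
  · exfalso
    push Not at hinj
    obtain ⟨i, j, hij, hne⟩ := hinj
    have hcard := card_index_le_two hP hm he E
    haveI : IsEmpty {l : ι // l ≠ i ∧ l ≠ j} := by
      refine ⟨fun ⟨l, hli, hlj⟩ => ?_⟩
      have h1 : ({i, j, l} : Finset ι).card = 3 := by
        rw [Finset.card_eq_three]
        exact ⟨i, j, l, hne, hli.symm, hlj.symm, rfl⟩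
      have h2 := Finset.card_le_univ ({i, j, l} : Finset ι)
      omega
    obtain ⟨E2⟩ := exists_split (p := p) e hne hij
    exact hnh ⟨e i, he i, ⟨E.trans (E2.trans MulEquiv.prodUnique)⟩⟩

end Group

section Main

variable {Ω : Type*} [Group Ω] {S : Subgroup Ω} [Finite S] {p : ℕ} [hp : Fact p.Prime]

theorem not_dih_zero_one {P : Type*} [Group P] [Finite P] (hna : ¬ ∀ x y : P, x * y = y * x) {m : ℕ}
    (e : P ≃* DihedralGroup m) : 2 ≤ m := by
  by_contra hm
  have hm' : m = 0 ∨ m = 1 := by omega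
  rcases hm' with rfl | rfl
  · haveI : Finite (DihedralGroup 0) := Finite.of_equiv _ e.toEquiv
    have h1 : Function.Injective (DihedralGroup.r : ZMod 0 → DihedralGroup 0) := fun a b h => by
      injection h
    haveI : Infinite (ZMod 0) := inferInstanceAs (Infinite ℤ)
    exact not_finite_iff_infinite.2 (Infinite.of_injective _ h1) inferInstance
  · apply hna
    intro x y
    have h1 : IsMulCommutative (DihedralGroup 1) := DihedralGroup.commutative_iff.2 (Or.inl rfl)
    apply e.injective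
    rw [map_mul, map_mul]
    exact mul_comm' _ _

theorem not_quat_zero_one {P : Type*} [Group P] [Finite P] (hna : ¬ ∀ x y : P, x * y = y * x) {m : ℕ}
    (e : P ≃* QuaternionGroup m) : 2 ≤ m := by
  by_contra hm
  have hm' : m = 0 ∨ m = 1 := by omega
  rcases hm' with rfl | rfl
  · haveI : Finite (QuaternionGroup 0) := Finite.of_equiv _ e.toEquiv
    have h1 : Function.Injective (QuaternionGroup.a : ZMod (2 * 0) → QuaternionGroup 0) := fun a b h => by
      injection h
    haveI : Infinite (ZMod (2 * 0)) := inferInstanceAs (Infinite ℤ)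
    exact not_finite_iff_infinite.2 (Infinite.of_injective _ h1) inferInstance
  · apply hna
    intro x y
    have h1 : IsCyclic (QuaternionGroup 1) := QuaternionGroup.quaternionGroup_one_isCyclic
    apply e.injective
    rw [map_mul, map_mul]
    obtain ⟨g, hg⟩ := h1.exists_generator
    obtain ⟨i, hi⟩ := Subgroup.mem_zpowers_iff.1 (hg (e x))
    obtain ⟨j, hj⟩ := Subgroup.mem_zpowers_iff.1 (hg (e y))
    rw [← hi, ← hj, ← zpow_add, ← zpow_add, add_comm]

/-- The backward direction of the list. -/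
theorem forall_of_not_list (hS : IsPGroup p S) (hm : Cfsg.IsMetacyclic S)
    (hnl : ¬ ((∃ n : ℕ, 0 < n ∧ Nonempty (↥S ≃* Multiplicative (ZMod (p ^ n)) × Multiplicative (ZMod (p ^ n)))) ∨
      (p = 2 ∧ ((∃ n : ℕ, 2 ≤ n ∧ Nonempty (↥S ≃* DihedralGroup n)) ∨ Cfsg.IsQuasiDihedral ↥S ∨
        (∃ n : ℕ, 2 ≤ n ∧ Nonempty (↥S ≃* QuaternionGroup n)))))) :
    ∀ F : FusionSystem S, F.IsSaturated p → HasSupChain F := by
  have hnh := fun h => hnl (Or.inl h)
  have hn2 := fun h1 h2 => hnl (Or.inr ⟨h1, h2⟩)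
  rw [forall_hasSupChain_iff hS]
  by_cases hab : ∀ x y : S, x * y = y * x
  · refine ⟨fun F hF => ?_, comm_pow_of_meta_abelian hS hm hab hnh⟩
    have hst : F.StronglyClosed S := ⟨le_rfl, fun R _ φ hφ x => Cfsg.Agent.Lib.Fusion.Basic.map_mem_S hφ x⟩
    exact Cfsg.Agent.Lib.Fusion.Chain.isNormal_of_abelian hS hF hst ⟨⟨fun a b => hab a b⟩⟩
  · by_cases hp2 : p = 2
    · subst hp2
      have hl : ¬ ((∃ m, Nonempty (S ≃* DihedralGroup m)) ∨ (∃ m, Nonempty (S ≃* QuaternionGroup m)) ∨
          Cfsg.IsQuasiDihedral S) := by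
        rintro (⟨m, ⟨e⟩⟩ | ⟨m, ⟨e⟩⟩ | h)
        · exact hn2 rfl (Or.inl ⟨m, not_dih_zero_one hab e, ⟨e⟩⟩)
        · exact hn2 rfl (Or.inr (Or.inr ⟨m, not_quat_zero_one hab e, ⟨e⟩⟩))
        · exact hn2 rfl (Or.inr (Or.inl h))
      refine ⟨fun F hF => ?_, comm_pow_of_meta_two hS hm hab hl⟩
      have hst : F.StronglyClosed S := ⟨le_rfl, fun R _ φ hφ x => Cfsg.Agent.Lib.Fusion.Basic.map_mem_S hφ x⟩
      exact Cfsg.Agent.Lib.Fusion.Meta.MainTwo.isNormal hS hF hst hm (fun h => hl (Or.inl h))
        (fun h => hl (Or.inr (Or.inl h))) (fun h => hl (Or.inr (Or.inr h)))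
    · have hodd : Odd p := hp.out.odd_of_ne_two hp2
      refine ⟨fun F hF => ?_, comm_pow_of_meta_odd hodd hS hm hab⟩
      have hst : F.StronglyClosed S := ⟨le_rfl, fun R _ φ hφ x => Cfsg.Agent.Lib.Fusion.Basic.map_mem_S hφ x⟩
      exact Cfsg.Agent.Lib.Fusion.Meta.Main.isNormal hS hF hst hp2 hm

end Main

end Cfsg.Agent.Lib.Fusion.Super.ListBackward
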